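set_option autoImplicit false
namespace Cfsg.Agent.Lib.Helper6.TCD.J1HU
noncomputable def WDL0 (i : Nat) : Nat := Nat.land (Nat.shiftRight 0x1111211112111120f1112111121111210f1121111211112110f1211112111121110f2111121111211110f0000000000000000b0000111111111110b0000020202020200a0000002020202020a0000012121212120a0000021212121210a0000000021202120800000002120212008000000012021202080000000202120210800000000000002202 (Nat.mul 68 (Nat.land i 15))) 295147905179352825855
noncomputable def WDL1 (i : Nat) : Nat := Nat.land (Nat.shiftRight 0x102000000000000010020002000020000200f0020000200002000f0200002000020000f2000020000200000f0000200002000020f (Nat.mul 68 (Nat.land i 15))) 295147905179352825855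
noncomputable def WD (i : Nat) : Nat := Bool.rec (WDL0 i) (WDL1 i) (Nat.ble 16 i)
end Cfsg.Agent.Lib.Helper6.TCD.J1HU
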