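import Cfsg.Agent.Lib.Helper6.TCD.J1HU.SH
import Cfsg.Agent.Lib.Helper6.TCD.J1HU.SC
import Cfsg.Agent.Lib.Helper6.TCD.J1HU.NH
import Cfsg.Agent.Lib.Helper6.TCD.J1HU.NC
import Cfsg.Agent.Lib.Helper6.TCD.J1HU.WD
import Cfsg.Agent.Lib.Helper6.TCD.J1HU.WI
set_option autoImplicit false
namespace Cfsg.Agent.Lib.Helper6.TCD.J1HU
def n : Nat := 664
def ncol : Nat := 3
def nrw : Nat := 23
def nw : Nat := 23
def tmax : Nat := 1989
def INV : Nat := 513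
def N : Nat := 660
end Cfsg.Agent.Lib.Helper6.TCD.J1HU
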